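/-
Groups with two involutory automorphisms having at most two fixed points whose product has order three
and no fixed points.
-/
import Mathlib

set_option autoImplicit false

namespace CfsgSharpTrans

theorem even_fixed {X : Type*} [Fintype X] [DecidableEq X] (f : X → X) (hf : Function.Involutive f)
    (h2 : Even (Fintype.card X)) : Even (Finset.univ.filter fun x => f x = x).card := by
  set σ := hf.toPerm f with hσ
  have hs : 2 ∣ σ.support.card := Equiv.Perm.two_dvd_card_support (by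
    ext x; simp [pow_two, hσ, hf x])
  have he : σ.support = Finset.univ.filter fun x => ¬ f x = x := by
    ext x; simp [hσ]
  have := Finset.card_filter_add_card_filter_not (s := (Finset.univ : Finset X)) (p := fun x => f x = x)
  rw [← he, Finset.card_univ] at this
  rw [Nat.even_iff] at h2 ⊢
  omega

variable {H : Type*} [Group H] [Finite H]

theorem fpf_commutator_surj (f : H →* H) (hf : ∀ x, f x = x → x = 1) (g : H) : ∃ x, x⁻¹ * f x = g := by
  have hinj : Function.Injective fun x : H => x⁻¹ * f x := by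
    intro x y h
    simp only at h
    refine mul_inv_eq_one.mp (hf (x * y⁻¹) ?_)
    rw [map_mul, map_inv]
    calc f x * (f y)⁻¹ = x * (x⁻¹ * f x) * (f y)⁻¹ := by group
      _ = x * (y⁻¹ * f y) * (f y)⁻¹ := by rw [h]
      _ = x * y⁻¹ := by group
  exact Finite.surjective_of_injective hinj g

theorem mem_normalizer_of_fwd {P : Subgroup H} {g : H} (h : ∀ z ∈ P, g * z * g⁻¹ ∈ P) :
    g ∈ Subgroup.normalizer (P : Set H) := by
  have hs : Function.Surjective fun z : P => (⟨g * z * g⁻¹, h z z.2⟩ : P) :=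
    Finite.surjective_of_injective fun a b e => Subtype.ext (by simpa using congrArg Subtype.val e)
  rw [Subgroup.mem_normalizer_iff]
  refine fun z => ⟨h z, fun hz => ?_⟩
  obtain ⟨w, hw⟩ := hs ⟨_, hz⟩
  have e : g * (w : H) * g⁻¹ = g * z * g⁻¹ := congrArg Subtype.val hw
  rw [← mul_left_cancel (mul_right_cancel e)]
  exact w.2

/-- The core computation. -/
theorem card_of_autos (φ ψ : H ≃* H) (hφ : ∀ x, φ (φ x) = x) (hψ : ∀ x, ψ (ψ x) = x)
    (h3 : ∀ x, φ (ψ (φ (ψ (φ (ψ x))))) = x) (hfpf : ∀ x, φ (ψ x) = x → x = 1)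
    (hφ2 : {x | φ x = x}.ncard ≤ 2) (hψ2 : {x | ψ x = x}.ncard ≤ 2) :
    Nat.card H = 1 ∨ Nat.card H = 4 := by
  classical
  haveI := Fintype.ofFinite H
  set ρ : H →* H := φ.toMonoidHom.comp ψ.toMonoidHom with hρ
  have hρa : ∀ x, ρ x = φ (ψ x) := fun x => rfl
  -- odd primes do not occur
  have hodd : ∀ p : ℕ, p.Prime → p ≠ 2 → ¬ p ∣ Nat.card H := by
    intro p hp hp2 hdvd
    haveI := Fact.mk hp
    have hrbij : Function.Bijective ρ := (φ.bijective.comp ψ.bijective)
    obtain ⟨P₁⟩ : Nonempty (Sylow p H) := inferInstance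
    -- an invariant Sylow subgroup
    obtain ⟨g, hg⟩ := MulAction.exists_smul_eq H P₁ (P₁.mapSurjective hrbij.2)
    obtain ⟨x, hx⟩ := fpf_commutator_surj ρ hfpf g⁻¹
    set P : Sylow p H := x • P₁ with hP
    have hgp : ∀ z, z ∈ P₁ → ρ z ∈ (g • P₁ : Sylow p H) := fun z hz => hg ▸ Subgroup.mem_map_of_mem ρ hz
    have hρx : ρ x = x * g⁻¹ := by rw [← hx]; group
    have hPρ : ∀ z, z ∈ P → ρ z ∈ P := by
      rintro z ⟨w, hw, rfl⟩
      obtain ⟨v, hv, hv'⟩ := hgp w hw
      refine ⟨v, hv, ?_⟩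
      show x * v * x⁻¹ = ρ (x * w * x⁻¹)
      have hv'' : g * v * g⁻¹ = ρ w := hv'
      rw [map_mul, map_mul, map_inv, hρx, ← hv'']
      group
    have huniq : ∀ R : Sylow p H, (∀ z, z ∈ R → ρ z ∈ R) → R = P := by
      intro R hR
      obtain ⟨y, rfl⟩ := MulAction.exists_smul_eq H P R
      have hNinv : ∀ n ∈ Subgroup.normalizer ((P : Subgroup H) : Set H), ρ n ∈ Subgroup.normalizer ((P : Subgroup H) : Set H) := by
        intro n hn
        rw [Subgroup.mem_normalizer_iff] at hn ⊢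
        intro z
        have hbij : Function.Bijective (fun z : (P : Subgroup H) => (⟨ρ z, hPρ z z.2⟩ : (P : Subgroup H))) :=
          Finite.injective_iff_bijective.mp fun a b e => Subtype.ext (hrbij.1 (congrArg Subtype.val e))
        constructor
        · intro hz
          obtain ⟨w, hw⟩ := hbij.2 ⟨z, hz⟩
          rw [← show ρ w = z from congrArg Subtype.val hw, ← map_inv, ← map_mul, ← map_mul]
          exact hPρ _ ((hn w).mp w.2)
        · intro hz
          obtain ⟨w, hw⟩ := hbij.2 ⟨_, hz⟩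
          have e : ρ w = ρ n * z * (ρ n)⁻¹ := congrArg Subtype.val hw
          have hw' : n⁻¹ * w * n ∈ (P : Subgroup H) := by
            have := (hn (n⁻¹ * w * n)).mpr
            exact this (by rw [show n * (n⁻¹ * w * n) * n⁻¹ = w by group]; exact w.2)
          have := hPρ _ hw'
          rwa [map_mul, map_mul, map_inv, e, show (ρ n)⁻¹ * (ρ n * z * (ρ n)⁻¹) * ρ n = z by group] at this
      have hyN : y⁻¹ * ρ y ∈ Subgroup.normalizer ((P : Subgroup H) : Set H) := by
        refine mem_normalizer_of_fwd fun z hz => ?_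
        have hbij : Function.Bijective (fun z : (P : Subgroup H) => (⟨ρ z, hPρ z z.2⟩ : (P : Subgroup H))) :=
          Finite.injective_iff_bijective.mp fun a b e => Subtype.ext (hrbij.1 (congrArg Subtype.val e))
        obtain ⟨w, hw⟩ := hbij.2 ⟨z, hz⟩
        obtain ⟨v, hv, hv'⟩ := hR _ (show y * (w : H) * y⁻¹ ∈ y • P from ⟨w, w.2, rfl⟩)
        have hv'' : y * v * y⁻¹ = ρ (y * w * y⁻¹) := hv'
        have e : ρ (w : H) = z := congrArg Subtype.val hw
        show y⁻¹ * ρ y * z * (y⁻¹ * ρ y)⁻¹ ∈ (P : Subgroup H)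
        rw [show y⁻¹ * ρ y * z * (y⁻¹ * ρ y)⁻¹ = v by
          rw [← e]
          rw [map_mul, map_mul, map_inv] at hv''
          calc y⁻¹ * ρ y * ρ w * (y⁻¹ * ρ y)⁻¹ = y⁻¹ * (ρ y * ρ w * (ρ y)⁻¹) * y := by group
            _ = y⁻¹ * (y * v * y⁻¹) * y := by rw [hv'']
            _ = v := by group]
        exact hv
      set N := Subgroup.normalizer ((P : Subgroup H) : Set H) with hN
      obtain ⟨n, hn⟩ := fpf_commutator_surj ((ρ.comp N.subtype).codRestrict N fun n => hNinv n n.2)
        (fun n h => Subtype.ext (hfpf _ (congrArg Subtype.val h))) ⟨_, hyN⟩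
      have hn' : (n : H)⁻¹ * ρ n = y⁻¹ * ρ y := congrArg Subtype.val hn
      have hyn : y = n := by
        refine mul_inv_eq_one.mp (hfpf (y * (n : H)⁻¹) ?_)
        rw [← hρa, map_mul, map_inv]
        calc ρ y * (ρ n)⁻¹ = y * (y⁻¹ * ρ y) * (ρ n)⁻¹ := by group
          _ = y * ((n : H)⁻¹ * ρ n) * (ρ n)⁻¹ := by rw [hn']
          _ = y * (n : H)⁻¹ := by group
      refine Sylow.ext ?_
      rw [Sylow.smul_eq_iff_mem_normalizer.mpr (by rw [hyn]; exact n.2)]
    have hPφ : ∀ z, z ∈ P → φ z ∈ P := by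
      have hR := huniq (P.mapSurjective (f := φ.toMonoidHom) φ.surjective) fun z hz => by
        obtain ⟨w, hw, rfl⟩ := hz
        -- `ρ φ = φ ρ⁻¹`
        refine ⟨ρ (ρ w), hPρ _ (hPρ _ hw), ?_⟩
        show φ (φ (ψ (φ (ψ w)))) = φ (ψ (φ w))
        rw [hφ]
        have h1 := congrArg φ (h3 w)
        rw [hφ] at h1
        have h2 := congrArg ψ h1
        rw [hψ] at h2
        have h4 := congrArg φ h2
        rw [hφ] at h4
        exact h4
      intro z hz
      rw [← hR]
      exact ⟨z, hz, rfl⟩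
    have hPψ : ∀ z, z ∈ P → ψ z ∈ P := fun z hz => by
      have := hPφ _ (hPρ z hz)
      rwa [hρa, hφ] at this
    have hfix : ∀ (θ : H ≃* H), {x | θ x = x}.ncard ≤ 2 → ∀ z ∈ P, θ z = z → z = 1 := by
      intro θ hθ z hz he
      by_contra hz1
      have hord : ∀ k : ℕ, θ (z ^ k) = z ^ k := fun k => by rw [map_pow, he]
      have hsub : (Subgroup.zpowers z : Set H) ⊆ {x | θ x = x} := by
        intro w hw
        obtain ⟨k, rfl⟩ := (mem_powers_iff_mem_zpowers.mpr hw : w ∈ Submonoid.powers z)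
        exact hord k
      have h1 := Set.ncard_le_ncard hsub (Set.toFinite _)
      obtain ⟨k, hk⟩ := (P.2 ⟨z, hz⟩)
      have hdiv : orderOf z ∣ p ^ k := orderOf_dvd_of_pow_eq_one (congrArg Subtype.val hk)
      obtain ⟨i, -, hi⟩ := (Nat.dvd_prime_pow hp).mp hdiv
      rw [show (Subgroup.zpowers z : Set H).ncard = orderOf z from by
        rw [← Nat.card_coe_set_eq]; exact Nat.card_zpowers z, hi] at h1
      have hi0 : i ≠ 0 := fun e => hz1 (orderOf_eq_one_iff.mp (by rw [hi, e, pow_zero]))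
      have : p ≤ p ^ i := Nat.le_self_pow hi0 p
      have := hp.two_le
      omega
    let res : ∀ θ : H ≃* H, (∀ z, z ∈ P → θ z ∈ P) → ((P : Subgroup H) →* (P : Subgroup H)) := fun θ hθ =>
      (θ.toMonoidHom.comp (P : Subgroup H).subtype).codRestrict _ fun z => hθ z z.2
    have hinv : ∀ θ : H ≃* H, (hθ : ∀ z, z ∈ P → θ z ∈ P) → (∀ x, θ (θ x) = x) → {x | θ x = x}.ncard ≤ 2 →
        ∀ z ∈ P, θ z = z⁻¹ := by
      intro θ hθ h2 hc z hz
      have hf : MonoidHom.FixedPointFree (res θ hθ) := fun w hw =>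
        Subtype.ext (hfix θ hc w w.2 (congrArg Subtype.val hw))
      have := congrFun (hf.coe_eq_inv_of_involutive fun w => Subtype.ext (h2 w)) ⟨z, hz⟩
      exact congrArg Subtype.val this
    obtain ⟨z, hz, hz1⟩ : ∃ z ∈ (P : Subgroup H), z ≠ 1 :=
      (Subgroup.bot_or_exists_ne_one _).resolve_left (P.ne_bot_of_dvd_card hdvd)
    refine hz1 (hfpf z ?_)
    rw [hinv ψ hPψ hψ hψ2 z hz, map_inv, hinv φ hPφ hφ hφ2 z hz, inv_inv]
  -- the case of a two-group
  obtain ⟨k, hk⟩ : ∃ k, Nat.card H = 2 ^ k :=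
    ⟨_, Nat.eq_prime_pow_of_unique_prime_dvd Nat.card_pos.ne' fun {d} hd hdd => by
      by_contra h; exact hodd d hd h hdd⟩
  rcases Nat.eq_zero_or_pos k with rfl | hk0
  · exact Or.inl (by rw [hk, pow_zero])
  right
  haveI := Fact.mk Nat.prime_two
  have hG : IsPGroup 2 H := IsPGroup.of_card hk
  haveI : Nontrivial H := Finite.one_lt_card_iff_nontrivial.mp (by rw [hk]; exact Nat.one_lt_two_pow hk0.ne')
  haveI := hG.center_nontrivial
  let W : Subgroup H :=
    { carrier := {z | z ∈ Subgroup.center H ∧ z * z = 1}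
      mul_mem' := fun {a b} ha hb => ⟨mul_mem ha.1 hb.1, by
        have hc : b * a = a * b := Subgroup.mem_center_iff.mp ha.1 b
        calc a * b * (a * b) = a * (b * a) * b := by group
          _ = (a * a) * (b * b) := by rw [hc]; group
          _ = 1 := by rw [ha.2, hb.2, one_mul]⟩
      one_mem' := ⟨one_mem _, one_mul 1⟩
      inv_mem' := fun {a} ha => ⟨inv_mem ha.1, by rw [← mul_inv_rev, ha.2, inv_one]⟩ }
  haveI : W.Normal := ⟨fun w hw g => by
    rw [Subgroup.mem_center_iff.mp hw.1 g, mul_inv_cancel_right]; exact hw⟩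
  have hWinv : ∀ θ : H ≃* H, ∀ w ∈ W, θ w ∈ W := fun θ w hw =>
    ⟨Subgroup.mem_center_iff.mpr fun g => by
      obtain ⟨g, rfl⟩ := θ.surjective g
      rw [← map_mul, ← map_mul, Subgroup.mem_center_iff.mp hw.1 g],
     by rw [← map_mul, hw.2, map_one]⟩
  have hW2 : Nontrivial W := by
    obtain ⟨⟨z, hz⟩, hz1⟩ := exists_ne (1 : Subgroup.center H)
    have hz1' : z ≠ 1 := fun e => hz1 (Subtype.ext e)
    obtain ⟨i, hi⟩ := hG z
    obtain ⟨j, hj, hjord⟩ := (Nat.dvd_prime_pow Nat.prime_two).mp (orderOf_dvd_of_pow_eq_one hi)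
    obtain ⟨j', rfl⟩ := Nat.exists_eq_succ_of_ne_zero (show j ≠ 0 from fun e => hz1' (orderOf_eq_one_iff.mp (by rw [hjord, e, pow_zero])))
    refine ⟨⟨⟨z ^ (2 ^ j'), pow_mem hz _, ?_⟩, 1, fun e => ?_⟩⟩
    · rw [← pow_add, ← two_mul, ← pow_succ', ← hjord, pow_orderOf_eq_one]
    · have h1 : z ^ (2 ^ j') = 1 := congrArg Subtype.val e
      have := orderOf_dvd_of_pow_eq_one h1
      rw [hjord] at this
      have := Nat.le_of_dvd (by positivity) this
      rw [pow_succ] at this
      have : 0 < 2 ^ j' := by positivity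
      omega
  obtain ⟨c, hcW, hc1, hcfix⟩ : ∃ c ∈ W, c ≠ 1 ∧ φ c = c := by
    have hev : Even (Fintype.card W) := by
      obtain ⟨i, hi⟩ := IsPGroup.iff_card.mp (hG.to_subgroup W)
      rw [← Nat.card_eq_fintype_card, hi, Nat.even_pow]
      refine ⟨even_two, fun e => ?_⟩
      have := Finite.one_lt_card_iff_nontrivial.mpr hW2
      rw [hi, e, pow_zero] at this
      omega
    have h := even_fixed (fun w : W => (⟨φ w, hWinv φ w w.2⟩ : W)) (fun w => Subtype.ext (hφ w)) hev
    have h1 : (1 : W) ∈ Finset.univ.filter fun w : W => (⟨φ w, hWinv φ w w.2⟩ : W) = w := by simp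
    have hlt : 1 < (Finset.univ.filter fun w : W => (⟨φ w, hWinv φ w w.2⟩ : W) = w).card := by
      have := Finset.card_pos.mpr ⟨_, h1⟩
      rw [Nat.even_iff] at h; omega
    obtain ⟨w, hw, hw1⟩ := Finset.exists_mem_ne hlt (1 : W)
    exact ⟨w, w.2, fun e => hw1 (Subtype.ext e), congrArg Subtype.val (Finset.mem_filter.mp hw).2⟩
  have hfixed : ∀ x, φ x = x → x = 1 ∨ x = c := by
    intro x hx
    by_contra h
    push Not at h
    have hsub : ({1, c, x} : Set H) ⊆ {y | φ y = y} := by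
      intro y hy
      rcases hy with rfl | rfl | rfl
      · exact map_one φ
      · exact hcfix
      · exact hx
    have h3' : ({1, c, x} : Set H).ncard = 3 :=
      Set.ncard_eq_three.mpr ⟨1, c, x, hc1.symm, h.1.symm, h.2.symm, rfl⟩
    have := Set.ncard_le_ncard hsub (Set.toFinite _)
    omega
  have hcc : c * c = 1 := hcW.2
  have hcomm : ∀ x, c * x = x * c := fun x => (Subgroup.mem_center_iff.mp hcW.1 x).symm
  have twist : ∀ x, x⁻¹ * φ x ∈ W → φ x = x ∨ φ x = x * c := by
    intro x hx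
    have hf : φ (x⁻¹ * φ x) = x⁻¹ * φ x := by
      have hinv' : (x⁻¹ * φ x)⁻¹ = x⁻¹ * φ x := inv_eq_of_mul_eq_one_right hx.2
      calc φ (x⁻¹ * φ x) = (φ x)⁻¹ * x := by rw [map_mul, map_inv, hφ]
        _ = (x⁻¹ * φ x)⁻¹ := by group
        _ = x⁻¹ * φ x := hinv'
    rcases hfixed _ hf with h | h
    · exact Or.inl (inv_mul_eq_one.mp h).symm
    · exact Or.inr (inv_mul_eq_iff_eq_mul.mp h)
  set u := ρ c with hu
  have huW : u ∈ W := hWinv φ _ (hWinv ψ c hcW)
  have hu1 : u ≠ 1 := fun e => hc1 (ψ.injective ((φ.injective (e.trans (map_one φ).symm)).trans (map_one ψ).symm))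
  have huc : u ≠ c := fun e => hc1 (hfpf c e)
  have huφ : φ u = u * c := by
    rcases twist u (mul_mem (inv_mem huW) (hWinv φ u huW)) with h | h
    · rcases hfixed u h with e | e
      · exact absurd e hu1
      · exact absurd e huc
    · exact h
  have hWsmall : ∀ w ∈ W, w = 1 ∨ w = c ∨ w = u ∨ w = u * c := by
    intro w hw
    rcases twist w (mul_mem (inv_mem hw) (hWinv φ w hw)) with h | h
    · rcases hfixed w h with e | e
      · exact Or.inl e
      · exact Or.inr (Or.inl e)
    · have hf : φ (u⁻¹ * w) = u⁻¹ * w := by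
        rw [map_mul, map_inv, huφ, h, mul_inv_rev, inv_eq_of_mul_eq_one_right hcc, mul_assoc, hcomm, mul_assoc,
          mul_assoc, hcc, mul_one]
      rcases hfixed _ hf with e | e
      · exact Or.inr (Or.inr (Or.inl (inv_mul_eq_one.mp e).symm))
      · exact Or.inr (Or.inr (Or.inr (inv_mul_eq_iff_eq_mul.mp e)))
  have hWall : ∀ x : H, x⁻¹ * φ x ∈ W → x ∈ W := by
    intro x hx
    rcases twist x hx with h | h
    · rcases hfixed x h with e | e
      · rw [e]; exact one_mem W
      · rw [e]; exact hcW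
    · have hf : φ (x * u) = x * u := by
        rw [map_mul, h, huφ, mul_assoc, ← mul_assoc c u c, hcomm u, mul_assoc, hcc, mul_one]
      rcases hfixed _ hf with e | e
      · rw [eq_inv_of_mul_eq_one_left e]; exact inv_mem huW
      · rw [eq_mul_inv_of_mul_eq e]; exact mul_mem hcW (inv_mem huW)
  have htop : W = ⊤ := by
    by_contra hne
    haveI : Fintype (H ⧸ W) := Fintype.ofFinite _
    let φq : H ⧸ W → H ⧸ W := QuotientGroup.map W W φ.toMonoidHom fun w hw => hWinv φ w hw
    have hev : Even (Fintype.card (H ⧸ W)) := by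
      obtain ⟨i, hi⟩ := IsPGroup.iff_card.mp (hG.to_quotient W)
      rw [← Nat.card_eq_fintype_card, hi, Nat.even_pow]
      refine ⟨even_two, fun e => hne ?_⟩
      rw [e, pow_zero] at hi
      exact Subgroup.index_eq_one.mp hi
    have hinv' : Function.Involutive φq := fun q => by
      induction q using QuotientGroup.induction_on with
      | _ x => show ((φ (φ x) : H) : H ⧸ W) = _; rw [hφ]
    have h := even_fixed φq hinv' hev
    have h1 : (1 : H ⧸ W) ∈ Finset.univ.filter fun q => φq q = q := Finset.mem_filter.mpr ⟨Finset.mem_univ _, map_one _⟩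
    have hlt : 1 < (Finset.univ.filter fun q => φq q = q).card := by
      have := Finset.card_pos.mpr ⟨_, h1⟩
      rw [Nat.even_iff] at h; omega
    obtain ⟨q, hq, hq1⟩ := Finset.exists_mem_ne hlt (1 : H ⧸ W)
    obtain ⟨x, rfl⟩ := QuotientGroup.mk'_surjective W q
    have hxW : x⁻¹ * φ x ∈ W := QuotientGroup.eq.mp ((Finset.mem_filter.mp hq).2).symm
    exact hq1 ((QuotientGroup.eq_one_iff x).mpr (hWall x hxW))
  have hall : (Finset.univ : Finset H) = {1, c, u, u * c} := by
    ext x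
    simp only [Finset.mem_univ, Finset.mem_insert, Finset.mem_singleton, true_iff]
    exact hWsmall x (htop ▸ Subgroup.mem_top x)
  rw [Nat.card_eq_fintype_card, ← Finset.card_univ, hall]
  have huc' : u * c ≠ 1 := fun e => huc ((eq_inv_of_mul_eq_one_left e).trans (inv_eq_of_mul_eq_one_right hcc))
  have e1 : u * c ≠ u := fun e => hc1 (mul_eq_left.mp e)
  have e2 : u * c ≠ c := fun e => hu1 (mul_eq_right.mp e)
  simp [hc1.symm, hu1.symm, huc'.symm, huc.symm, e1.symm, e2.symm]

end CfsgSharpTrans
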