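/-
Jordan's theorem on sharply four-transitive groups.
-/
import Cfsg.Agent.Lib.SharpTrans.Auto

set_option autoImplicit false

namespace CfsgSharpTrans

variable {α : Type*} [Fintype α] [DecidableEq α]

/-- Four distinct points. -/
def D4 (a b c d : α) : Prop := a ≠ b ∧ a ≠ c ∧ a ≠ d ∧ b ≠ c ∧ b ≠ d ∧ c ≠ d

/-- The fixed points. -/
def fixed (g : Equiv.Perm α) : Finset α := Finset.univ.filter fun z => g z = z

theorem mem_fixed {g : Equiv.Perm α} {z : α} : z ∈ fixed g ↔ g z = z := by simp [fixed]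

theorem conj_at (h a : Equiv.Perm α) {p q : α} (hp : h p = q) : (h * a * h⁻¹) q = h (a p) := by
  subst hp; simp

theorem conj_sq (h a : Equiv.Perm α) (ha : a * a = 1) : h * a * h⁻¹ * (h * a * h⁻¹) = 1 := by
  calc h * a * h⁻¹ * (h * a * h⁻¹) = h * (a * a) * h⁻¹ := by group
    _ = 1 := by rw [ha]; group

theorem fixed_conj (h g : Equiv.Perm α) : fixed (h * g * h⁻¹) = (fixed g).image h := by
  ext z
  obtain ⟨w, rfl⟩ := h.surjective z
  simp [mem_fixed]

/-- Sharp four-transitivity. -/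
structure Sharp4 (G : Subgroup (Equiv.Perm α)) : Prop where
  ex : ∀ a b c d a' b' c' d' : α, D4 a b c d → D4 a' b' c' d' →
    ∃ g ∈ G, g a = a' ∧ g b = b' ∧ g c = c' ∧ g d = d'
  uniq : ∀ g ∈ G, ∀ h ∈ G, ∀ a b c d : α, D4 a b c d → g a = h a → g b = h b → g c = h c → g d = h d → g = h

variable {G : Subgroup (Equiv.Perm α)} (hG : Sharp4 G)
include hG

theorem fixed_le {g : Equiv.Perm α} (hg : g ∈ G) (hg1 : g ≠ 1) : (fixed g).card ≤ 3 := by
  by_contra h
  obtain ⟨s, hs, hs4⟩ := Finset.exists_subset_card_eq (show 4 ≤ (fixed g).card by omega)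
  obtain ⟨a, b, c, d, h1, h2, h3, h4, h5, h6, rfl⟩ := Finset.card_eq_four.mp hs4
  simp only [Finset.insert_subset_iff, Finset.singleton_subset_iff, mem_fixed] at hs
  exact hg1 (hG.uniq g hg 1 (one_mem G) a b c d ⟨h1, h2, h3, h4, h5, h6⟩ hs.1 hs.2.1 hs.2.2.1 hs.2.2.2)

theorem sq_one {g : Equiv.Perm α} (hg : g ∈ G) {a b c d : α} (h : D4 a b c d) (h1 : g (g a) = a) (h2 : g (g b) = b)
    (h3 : g (g c) = c) (h4 : g (g d) = d) : g * g = 1 :=
  hG.uniq _ (mul_mem hg hg) 1 (one_mem G) a b c d h h1 h2 h3 h4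

theorem conj_basic {u v x y : α} (hd : D4 u v x y) {a : Equiv.Perm α} (ha : a ∈ G) (au : a u = u) (av : a v = v)
    (ax : a x = y) (ay : a y = x) {g : Equiv.Perm α} (hg : g ∈ G) (hg2 : g * g = 1) (hg1 : g ≠ 1) {u' v' : α}
    (huv : u' ≠ v') (gu : g u' = u') (gv : g v' = v') : ∃ h ∈ G, h * a * h⁻¹ = g ∧ h u = u' ∧ h v = v' := by
  obtain ⟨x', hx'⟩ : ∃ x', g x' ≠ x' := by
    by_contra hc
    push Not at hc
    exact hg1 (Equiv.ext hc)
  have hxu : x' ≠ u' := fun e => hx' (by rw [e, gu])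
  have hxv : x' ≠ v' := fun e => hx' (by rw [e, gv])
  have hyu : g x' ≠ u' := fun e => hxu (g.injective (e.trans gu.symm))
  have hyv : g x' ≠ v' := fun e => hxv (g.injective (e.trans gv.symm))
  have hgg : g (g x') = x' := Equiv.congr_fun hg2 x'
  have hd' : D4 u' v' x' (g x') := ⟨huv, hxu.symm, hyu.symm, hxv.symm, hyv.symm, hx'.symm⟩
  obtain ⟨h, hh, e1, e2, e3, e4⟩ := hG.ex u v x y u' v' x' (g x') hd hd'
  refine ⟨h, hh, hG.uniq _ (mul_mem (mul_mem hh ha) (inv_mem hh)) g hg u' v' x' (g x') hd' ?_ ?_ ?_ ?_, e1, e2⟩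
  · rw [conj_at h a e1, au, e1, gu]
  · rw [conj_at h a e2, av, e2, gv]
  · rw [conj_at h a e3, ax, e4]
  · rw [conj_at h a e4, ay, e3, hgg]

/-- No large degree when the involutions fix two points. -/
theorem case_two (h7 : 7 ≤ Fintype.card α) {u v x y : α} (hd : D4 u v x y) {a : Equiv.Perm α} (ha : a ∈ G)
    (au : a u = u) (av : a v = v) (ax : a x = y) (ay : a y = x) (hfa : (fixed a).card = 2) : False := by
  classical
  obtain ⟨huv, hux, huy, hvx, hvy, hxy⟩ := hd
  have hd : D4 u v x y := ⟨huv, hux, huy, hvx, hvy, hxy⟩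
  have hfix2 : ∀ {g : Equiv.Perm α} {u' v' : α}, g ∈ G → g * g = 1 → g ≠ 1 → u' ≠ v' → g u' = u' → g v' = v' →
      fixed g = {u', v'} := by
    intro g u' v' hg h2 h1 hne e1 e2
    obtain ⟨h, -, rfl, -, -⟩ := conj_basic hG hd ha au av ax ay hg h2 h1 hne e1 e2
    refine (Finset.eq_of_subset_of_card_le (by simp [Finset.insert_subset_iff, mem_fixed] at e1 e2 ⊢; exact ⟨e1, e2⟩) ?_).symm
    rw [fixed_conj, Finset.card_image_of_injective _ h.injective, hfa, Finset.card_pair hne]
  set R : Finset α := Finset.univ \ {u, v} with hR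
  have memR : ∀ {z}, z ∈ R ↔ z ≠ u ∧ z ≠ v := fun {z} => by simp [hR]
  have hq : R.card = Fintype.card α - 2 := by
    rw [hR, Finset.card_sdiff_of_subset (Finset.subset_univ _), Finset.card_pair huv, Finset.card_univ]
  set S : Finset (Equiv.Perm α) := Finset.univ.filter fun g => g ∈ G ∧ g u = u ∧ g v = v with hS
  have memS : ∀ {g}, g ∈ S ↔ g ∈ G ∧ g u = u ∧ g v = v := fun {g} => by simp [hS]
  have hSR : ∀ {g z}, g ∈ S → z ∈ R → g z ∈ R := fun {g z} hg hz => by
    obtain ⟨-, g1, g2⟩ := memS.mp hg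
    obtain ⟨z1, z2⟩ := memR.mp hz
    exact memR.mpr ⟨fun e => z1 (g.injective (e.trans g1.symm)), fun e => z2 (g.injective (e.trans g2.symm))⟩
  have d4R : ∀ {w t}, w ∈ R → t ∈ R → w ≠ t → D4 u v w t := fun {w t} hw ht hne =>
    ⟨huv, (memR.mp hw).1.symm, (memR.mp ht).1.symm, (memR.mp hw).2.symm, (memR.mp ht).2.symm, hne⟩
  have hxR : x ∈ R := memR.mpr ⟨hux.symm, hvx.symm⟩
  have hyR : y ∈ R := memR.mpr ⟨huy.symm, hvy.symm⟩
  have hScard : S.card = R.offDiag.card := by
    refine Finset.card_bij (fun g _ => (g x, g y)) (fun g hg => ?_) (fun g hg h hh e => ?_) (fun p hp => ?_)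
    · exact Finset.mem_offDiag.mpr ⟨hSR hg hxR, hSR hg hyR, g.injective.ne hxy⟩
    · obtain ⟨g0, g1, g2⟩ := memS.mp hg
      obtain ⟨h0, h1, h2⟩ := memS.mp hh
      exact hG.uniq g g0 h h0 u v x y hd (g1.trans h1.symm) (g2.trans h2.symm) (congrArg Prod.fst e) (congrArg Prod.snd e)
    · obtain ⟨p1, p2, p12⟩ := Finset.mem_offDiag.mp hp
      obtain ⟨g, hg, e1, e2, e3, e4⟩ := hG.ex u v x y u v p.1 p.2 hd (d4R p1 p2 p12)
      exact ⟨g, memS.mpr ⟨hg, e1, e2⟩, Prod.ext e3 e4⟩
  have hSw : ∀ w ∈ R, ((S.filter fun g => g w = w).erase 1).card = R.card - 2 := by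
    intro w hw
    obtain ⟨t, ht, htw⟩ := Finset.exists_mem_ne (show 1 < R.card by omega) w
    have h1 : (1 : Equiv.Perm α) ∈ S.filter fun g => g w = w :=
      Finset.mem_filter.mpr ⟨memS.mpr ⟨one_mem G, rfl, rfl⟩, rfl⟩
    have hc : (S.filter fun g => g w = w).card = (R.erase w).card := by
      refine Finset.card_bij (fun g _ => g t) (fun g hg => ?_) (fun g hg h hh e => ?_) (fun z hz => ?_)
      · obtain ⟨hgS, hgw⟩ := Finset.mem_filter.mp hg
        exact Finset.mem_erase.mpr ⟨fun e => htw (g.injective (e.trans hgw.symm)), hSR hgS ht⟩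
      · obtain ⟨hgS, hgw⟩ := Finset.mem_filter.mp hg
        obtain ⟨hhS, hhw⟩ := Finset.mem_filter.mp hh
        obtain ⟨g0, g1, g2⟩ := memS.mp hgS
        obtain ⟨h0, h1, h2⟩ := memS.mp hhS
        exact hG.uniq g g0 h h0 u v w t (d4R hw ht htw.symm) (g1.trans h1.symm) (g2.trans h2.symm)
          (hgw.trans hhw.symm) e
      · obtain ⟨hzw, hz⟩ := Finset.mem_erase.mp hz
        obtain ⟨g, hg, e1, e2, e3, e4⟩ := hG.ex u v w t u v w z (d4R hw ht htw.symm) (d4R hw hz hzw.symm)
        exact ⟨g, Finset.mem_filter.mpr ⟨memS.mpr ⟨hg, e1, e2⟩, e3⟩, e4⟩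
    rw [Finset.card_erase_of_mem h1, hc, Finset.card_erase_of_mem hw]
    omega
  set F : Finset (Equiv.Perm α) := S.filter fun g => ∀ w ∈ R, g w ≠ w with hF
  have h1F : (1 : Equiv.Perm α) ∉ F := fun h => (Finset.mem_filter.mp h).2 x hxR rfl
  have hFcard : F.card = R.card - 1 := by
    have hun : S.erase 1 = F ∪ R.biUnion fun w => (S.filter fun g => g w = w).erase 1 := by
      ext g
      simp only [Finset.mem_erase, Finset.mem_union, Finset.mem_biUnion, Finset.mem_filter, hF]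
      constructor
      · rintro ⟨g1, gS⟩
        by_cases h : ∀ w ∈ R, g w ≠ w
        · exact Or.inl ⟨gS, h⟩
        · push Not at h
          obtain ⟨w, hw, e⟩ := h
          exact Or.inr ⟨w, hw, g1, gS, e⟩
      · rintro (⟨gS, h⟩ | ⟨w, -, g1, gS, -⟩)
        · exact ⟨fun e => h x hxR (by rw [e]; rfl), gS⟩
        · exact ⟨g1, gS⟩
    have hdisj : Disjoint F (R.biUnion fun w => (S.filter fun g => g w = w).erase 1) := by
      rw [Finset.disjoint_left]
      intro g hg hg'
      obtain ⟨w, hw, hgw⟩ := Finset.mem_biUnion.mp hg'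
      exact (Finset.mem_filter.mp hg).2 w hw (Finset.mem_filter.mp (Finset.mem_erase.mp hgw).2).2
    have hb : (R.biUnion fun w => (S.filter fun g => g w = w).erase 1).card = R.card * (R.card - 2) := by
      rw [Finset.card_biUnion, Finset.sum_congr rfl hSw, Finset.sum_const, smul_eq_mul]
      intro w hw w' hw' hne
      simp only [Finset.disjoint_left, Function.onFun]
      intro g hg hg'
      obtain ⟨g1, hg⟩ := Finset.mem_erase.mp hg
      obtain ⟨gS, gw⟩ := Finset.mem_filter.mp hg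
      obtain ⟨g0, gu, gv⟩ := memS.mp gS
      exact g1 (hG.uniq g g0 1 (one_mem G) u v w w' (d4R hw hw' hne) gu gv gw
        (Finset.mem_filter.mp (Finset.mem_erase.mp hg').2).2)
    have := congrArg Finset.card hun
    rw [Finset.card_union_of_disjoint hdisj, hb,
      Finset.card_erase_of_mem (memS.mpr ⟨one_mem G, rfl, rfl⟩), hScard, Finset.offDiag_card] at this
    obtain ⟨q, hq'⟩ : ∃ q, R.card = q + 2 := ⟨R.card - 2, by omega⟩
    rw [hq'] at this ⊢
    simp only [Nat.add_sub_cancel] at this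
    rw [show (q + 2) * (q + 2) = (q + 2) * q + (2 * q + 4) by ring] at this
    omega
  have hinv : ∀ z : α, ∃ e : Equiv.Perm α, z ∈ R.erase x → e ∈ F ∧ e * e = 1 ∧ e x = z ∧ e z = x := by
    intro z
    by_cases hz : z ∈ R.erase x
    · obtain ⟨hzx, hzR⟩ := Finset.mem_erase.mp hz
      obtain ⟨e, he, e1, e2, e3, e4⟩ := hG.ex u v x z u v z x (d4R hxR hzR hzx.symm) (d4R hzR hxR hzx)
      have h2 := sq_one hG he (d4R hxR hzR hzx.symm) (by rw [e1, e1]) (by rw [e2, e2]) (by rw [e3, e4]) (by rw [e4, e3])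
      have hne : e ≠ 1 := fun e' => hzx (by rw [← e3, e']; rfl)
      refine ⟨e, fun _ => ⟨Finset.mem_filter.mpr ⟨memS.mpr ⟨he, e1, e2⟩, fun w hw hew => ?_⟩, h2, e3, e4⟩⟩
      have := hfix2 he h2 hne huv e1 e2
      have hw' : w ∈ fixed e := mem_fixed.mpr hew
      rw [this, Finset.mem_insert, Finset.mem_singleton] at hw'
      exact hw'.elim (memR.mp hw).1 (memR.mp hw).2
    · exact ⟨1, fun h => absurd h hz⟩
  choose e he using hinv
  have hFsq : ∀ g ∈ F, g * g = 1 := by
    have himg : (R.erase x).image e = F := by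
      refine Finset.eq_of_subset_of_card_le (fun g hg => ?_) ?_
      · obtain ⟨z, hz, rfl⟩ := Finset.mem_image.mp hg; exact (he z hz).1
      · rw [hFcard, Finset.card_image_of_injOn, Finset.card_erase_of_mem hxR]
        intro z hz z' hz' h
        rw [← (he z hz).2.2.1, ← (he z' hz').2.2.1, h]
    intro g hg
    obtain ⟨z, hz, rfl⟩ := Finset.mem_image.mp (himg.symm ▸ hg)
    exact (he z hz).2.1
  have hFS : ∀ {g}, g ∈ F → g ∈ S := fun hg => (Finset.mem_filter.mp hg).1
  have hFmul : ∀ g ∈ F, ∀ k ∈ F, g ≠ k → g * k ∈ F ∧ g * k = k * g := by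
    intro g hg k hk hne
    obtain ⟨g0, g1, g2⟩ := memS.mp (hFS hg)
    obtain ⟨k0, k1, k2⟩ := memS.mp (hFS hk)
    have hm : g * k ∈ F := by
      refine Finset.mem_filter.mpr ⟨memS.mpr ⟨mul_mem g0 k0, ?_, ?_⟩, fun w hw h => ?_⟩
      · rw [Equiv.Perm.mul_apply, k1, g1]
      · rw [Equiv.Perm.mul_apply, k2, g2]
      · have hgk : g w = k w := by
          have hkk : g (g (k w)) = k w := Equiv.congr_fun (hFsq g hg) (k w)
          rw [show g (k w) = w from h] at hkk
          exact hkk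
        have hgw : g w ≠ w := (Finset.mem_filter.mp hg).2 w hw
        exact hne (hG.uniq g g0 k k0 u v w (g w) (d4R hw (hSR (hFS hg) hw) hgw.symm) (g1.trans k1.symm)
          (g2.trans k2.symm) hgk (by
            rw [show g (g w) = w from Equiv.congr_fun (hFsq g hg) w, hgk]
            exact (Equiv.congr_fun (hFsq k hk) w).symm))
    refine ⟨hm, ?_⟩
    have h1 := hFsq _ hm
    calc g * k = (g * k)⁻¹ := (inv_eq_of_mul_eq_one_right h1).symm
      _ = k * g := by rw [mul_inv_rev, inv_eq_of_mul_eq_one_right (hFsq k hk), inv_eq_of_mul_eq_one_right (hFsq g hg)]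
  obtain ⟨b, hb, bu, bv, bx, by'⟩ := hG.ex u v x y v u x y hd ⟨huv.symm, hvx, hvy, hux, huy, hxy⟩
  have hb2 := sq_one hG hb hd (by rw [bu, bv]) (by rw [bv, bu]) (by rw [bx, bx]) (by rw [by', by'])
  have hbb : ∀ w, b (b w) = w := fun w => Equiv.congr_fun hb2 w
  have hb1 : b ≠ 1 := fun e => huv (by rw [← bu, e]; rfl)
  have hfixb : fixed b = {x, y} := hfix2 hb hb2 hb1 hxy bx by'
  have haF : a ∈ F := Finset.mem_filter.mpr ⟨memS.mpr ⟨ha, au, av⟩, fun w hw h => by
    have h2 := sq_one hG ha hd (by rw [au, au]) (by rw [av, av]) (by rw [ax, ay]) (by rw [ay, ax])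
    have hw' : w ∈ fixed a := mem_fixed.mpr h
    rw [hfix2 ha h2 (fun e => hxy (by rw [← ax, e]; rfl)) huv au av, Finset.mem_insert, Finset.mem_singleton] at hw'
    exact hw'.elim (memR.mp hw).1 (memR.mp hw).2⟩
  -- elements of `F` commuting with `b` equal `a`
  have key : ∀ g ∈ F, b * g * b = g → g = a := by
    intro g hg hbg
    obtain ⟨g0, g1, g2⟩ := memS.mp (hFS hg)
    have h1 : b (g x) = g x := by
      have := Equiv.congr_fun hbg x
      simpa [bx] using this
    have h2 : g x ∈ fixed b := mem_fixed.mpr h1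
    rw [hfixb, Finset.mem_insert, Finset.mem_singleton] at h2
    have h3 : g x = y := h2.resolve_left ((Finset.mem_filter.mp hg).2 x hxR)
    refine hG.uniq g g0 a ha u v x y hd (g1.trans au.symm) (g2.trans av.symm) (h3.trans ax.symm) ?_
    rw [ay, ← h3]
    exact Equiv.congr_fun (hFsq g hg) x
  have hbR : ∀ {z}, z ∈ R → b z ∈ R := fun {z} hz => memR.mpr
    ⟨fun e => (memR.mp hz).2 (b.injective (e.trans bv.symm)), fun e => (memR.mp hz).1 (b.injective (e.trans bu.symm))⟩
  have hpair : ∀ z ∈ R, z ≠ x → z ≠ y → b z ∈ R.erase x ∧ e (b z) = e z * a ∧ b * e z * b = e (b z) := by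
    intro z hz hzx hzy
    have hbz : b z ∈ R.erase x :=
      Finset.mem_erase.mpr ⟨fun h => hzx (b.injective (h.trans bx.symm)), hbR hz⟩
    have hz' : z ∈ R.erase x := Finset.mem_erase.mpr ⟨hzx, hz⟩
    obtain ⟨f1, f2, f3, f4⟩ := he z hz'
    obtain ⟨k1, k2, k3, k4⟩ := he (b z) hbz
    obtain ⟨g0, g1, g2⟩ := memS.mp (hFS f1)
    obtain ⟨q0, q1, q2⟩ := memS.mp (hFS k1)
    have hconj : b * e z * b = e (b z) := by
      refine hG.uniq _ (mul_mem (mul_mem hb g0) hb) _ q0 u v x (b z)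
        (d4R hxR (hbR hz) (Ne.symm (Finset.mem_erase.mp hbz).1)) ?_ ?_ ?_ ?_
      · simp [bu, g2, bv, q1]
      · simp [bv, g1, bu, q2]
      · simp [bx, f3, k3]
      · simp [hbb, f4, bx, k4]
    have hne : e z ≠ e (b z) := fun h => by
      have hzb : b z = z := by rw [← k3, ← h, f3]
      have : z ∈ fixed b := mem_fixed.mpr hzb
      rw [hfixb, Finset.mem_insert, Finset.mem_singleton] at this
      exact this.elim hzx hzy
    obtain ⟨hm, hc⟩ := hFmul _ f1 _ k1 hne
    have hk : b * (e z * e (b z)) * b = e z * e (b z) := by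
      have e2 : b * e (b z) * b = e z := by
        rw [← hconj]
        simp only [← mul_assoc, hb2, one_mul]
        rw [mul_assoc, hb2, mul_one]
      calc b * (e z * e (b z)) * b = (b * e z * b) * (b * e (b z) * b) := by
            simp only [mul_assoc]; rw [← mul_assoc b b, hb2, one_mul]
        _ = e (b z) * e z := by rw [hconj, e2]
        _ = e z * e (b z) := hc.symm
    refine ⟨hbz, ?_, hconj⟩
    rw [← key _ hm hk, ← mul_assoc, f2, one_mul]
  have h3R : 3 ≤ (R \ {x, y}).card := by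
    rw [Finset.card_sdiff_of_subset (by simp [Finset.insert_subset_iff, hxR, hyR]), Finset.card_pair hxy]
    omega
  obtain ⟨z₁, hz₁⟩ := Finset.card_pos.mp (show 0 < (R \ {x, y}).card by omega)
  obtain ⟨z₂, hz₂, hz₂'⟩ : ∃ z₂ ∈ R \ {x, y}, z₂ ≠ z₁ ∧ z₂ ≠ b z₁ := by
    by_contra h
    push Not at h
    have := Finset.card_le_card (show R \ {x, y} ⊆ {z₁, b z₁} from fun w hw => by
      rw [Finset.mem_insert, Finset.mem_singleton]
      exact or_iff_not_imp_left.mpr (h w hw))
    have := Finset.card_le_two (a := z₁) (b := b z₁)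
    omega
  simp only [Finset.mem_sdiff, Finset.mem_insert, Finset.mem_singleton, not_or] at hz₁ hz₂
  obtain ⟨hb1', ha1, hc1⟩ := hpair z₁ hz₁.1 hz₁.2.1 hz₁.2.2
  obtain ⟨hb2', ha2, hc2⟩ := hpair z₂ hz₂.1 hz₂.2.1 hz₂.2.2
  have hm1 : z₁ ∈ R.erase x := Finset.mem_erase.mpr ⟨hz₁.2.1, hz₁.1⟩
  have hm2 : z₂ ∈ R.erase x := Finset.mem_erase.mpr ⟨hz₂.2.1, hz₂.1⟩
  have hne : e z₁ ≠ e z₂ := fun h => hz₂'.1 (by rw [← (he z₂ hm2).2.2.1, ← h, (he z₁ hm1).2.2.1])
  obtain ⟨hm, -⟩ := hFmul _ (he z₁ hm1).1 _ (he z₂ hm2).1 hne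
  have haz : a * e z₂ = e z₂ * a := by
    by_cases h : a = e z₂
    · rw [h]
    · exact (hFmul a haF _ (he z₂ hm2).1 h).2
  have hk : b * (e z₁ * e z₂) * b = e z₁ * e z₂ := by
    calc b * (e z₁ * e z₂) * b = (b * e z₁ * b) * (b * e z₂ * b) := by
          simp only [mul_assoc]; rw [← mul_assoc b b, hb2, one_mul]
      _ = e z₁ * (a * e z₂) * a := by rw [hc1, hc2, ha1, ha2]; simp only [mul_assoc]
      _ = e z₁ * e z₂ := by rw [haz, mul_assoc, mul_assoc, hFsq a haF, mul_one]
  refine hz₂'.2 ?_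
  have h2 : e z₂ = e (b z₁) := by
    rw [ha1, ← key _ hm hk, ← mul_assoc, (he z₁ hm1).2.1, one_mul]
  rw [← (he z₂ hm2).2.2.1, h2, (he (b z₁) hb1').2.2.1]

/-- Three fixed points force degree eleven. -/
theorem case_three (h7 : 7 ≤ Fintype.card α) {u v x y : α} (hd : D4 u v x y) {a : Equiv.Perm α} (ha : a ∈ G)
    (au : a u = u) (av : a v = v) (ax : a x = y) (ay : a y = x) (hfa : (fixed a).card = 3) :
    Fintype.card α = 11 := by
  classical
  obtain ⟨huv, hux, huy, hvx, hvy, hxy⟩ := hd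
  have hd : D4 u v x y := ⟨huv, hux, huy, hvx, hvy, hxy⟩
  have ha2 := sq_one hG ha hd (by rw [au, au]) (by rw [av, av]) (by rw [ax, ay]) (by rw [ay, ax])
  have haa : ∀ w, a (a w) = w := fun w => Equiv.congr_fun ha2 w
  have hane : a ≠ 1 := fun e => hxy (by rw [← ax, e]; rfl)
  obtain ⟨i, hi, hiu, hiv⟩ : ∃ i ∈ fixed a, i ≠ u ∧ i ≠ v := by
    by_contra h
    push Not at h
    have := Finset.card_le_card (show fixed a ⊆ {u, v} from fun w hw => by
      rw [Finset.mem_insert, Finset.mem_singleton]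
      exact or_iff_not_imp_left.mpr (h w hw))
    rw [Finset.card_pair huv] at this
    omega
  have ai : a i = i := mem_fixed.mp hi
  have hix : i ≠ x := fun e => hxy (by rw [← ax, ← e, ai])
  have hiy : i ≠ y := fun e => hxy (by rw [← ay, ← e, ai])
  have hfixa : fixed a = {u, v, i} := (Finset.eq_of_subset_of_card_le
    (by simp [Finset.insert_subset_iff, mem_fixed, au, av, ai])
    (by rw [hfa, Finset.card_eq_three.mpr ⟨u, v, i, huv, hiu.symm, hiv.symm, rfl⟩])).symm
  have hfix3 : ∀ {g : Equiv.Perm α} {u' v' : α}, g ∈ G → g * g = 1 → g ≠ 1 → u' ≠ v' → g u' = u' → g v' = v' →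
      (fixed g).card = 3 := by
    intro g u' v' hg h2 h1 hne e1 e2
    obtain ⟨h, -, rfl, -, -⟩ := conj_basic hG hd ha au av ax ay hg h2 h1 hne e1 e2
    rw [fixed_conj, Finset.card_image_of_injective _ h.injective, hfa]
  -- uniqueness of the involution fixing three given points
  set R : Finset α := Finset.univ \ {u, v} with hR
  have memR : ∀ {z}, z ∈ R ↔ z ≠ u ∧ z ≠ v := fun {z} => by simp [hR]
  have hq : R.card = Fintype.card α - 2 := by
    rw [hR, Finset.card_sdiff_of_subset (Finset.subset_univ _), Finset.card_pair huv, Finset.card_univ]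
  have d4R : ∀ {w t}, w ∈ R → t ∈ R → w ≠ t → D4 u v w t := fun {w t} hw ht hne =>
    ⟨huv, (memR.mp hw).1.symm, (memR.mp ht).1.symm, (memR.mp hw).2.symm, (memR.mp ht).2.symm, hne⟩
  set I : Finset (Equiv.Perm α) :=
    Finset.univ.filter fun g => g ∈ G ∧ g u = u ∧ g v = v ∧ g * g = 1 ∧ g ≠ 1 with hI
  have memI : ∀ {g}, g ∈ I ↔ g ∈ G ∧ g u = u ∧ g v = v ∧ g * g = 1 ∧ g ≠ 1 := fun {g} => by simp [hI]
  have hone : ∀ g ∈ I, (R.filter fun w => g w = w).card = 1 := by
    intro g hg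
    obtain ⟨g0, g1, g2, g3, g4⟩ := memI.mp hg
    have hsplit : R.filter (fun w => g w = w) = fixed g \ {u, v} := by
      ext w; simp [hR, mem_fixed, and_comm]
    rw [hsplit, Finset.card_sdiff_of_subset (by simp [Finset.insert_subset_iff, mem_fixed, g1, g2]),
      hfix3 g0 g3 g4 huv g1 g2, Finset.card_pair huv]
  have hIcard : I.card = R.card := by
    have h1 : (I.sigma fun g => R.filter fun w => g w ≠ w).card = R.offDiag.card := by
      refine Finset.card_bij (fun p _ => (p.2, p.1 p.2)) (fun p hp => ?_) (fun p hp p' hp' e => ?_) (fun p hp => ?_)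
      · obtain ⟨hg, hw⟩ := Finset.mem_sigma.mp hp
        obtain ⟨hw, hne⟩ := Finset.mem_filter.mp hw
        obtain ⟨g0, g1, g2, -, -⟩ := memI.mp hg
        refine Finset.mem_offDiag.mpr ⟨hw, memR.mpr ⟨fun e => (memR.mp hw).1 ?_, fun e => (memR.mp hw).2 ?_⟩, hne.symm⟩
        · exact p.1.injective (e.trans g1.symm)
        · exact p.1.injective (e.trans g2.symm)
      · obtain ⟨g, w⟩ := p
        obtain ⟨g', w'⟩ := p'
        obtain ⟨hg, hw⟩ := Finset.mem_sigma.mp hp
        obtain ⟨hg', -⟩ := Finset.mem_sigma.mp hp'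
        obtain ⟨hw, hne⟩ := Finset.mem_filter.mp hw
        obtain ⟨g0, g1, g2, g3, -⟩ := memI.mp hg
        obtain ⟨k0, k1, k2, k3, -⟩ := memI.mp hg'
        obtain rfl : w = w' := congrArg Prod.fst e
        have e2 : g w = g' w := congrArg Prod.snd e
        have hgw : g w ∈ R := memR.mpr ⟨fun h => (memR.mp hw).1 (g.injective (h.trans g1.symm)),
          fun h => (memR.mp hw).2 (g.injective (h.trans g2.symm))⟩
        have hgg : g = g' := hG.uniq g g0 g' k0 u v w (g w) (d4R hw hgw hne.symm) (g1.trans k1.symm)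
          (g2.trans k2.symm) e2 (by
            rw [show g (g w) = w from Equiv.congr_fun g3 w, e2]
            exact (Equiv.congr_fun k3 w).symm)
        subst hgg
        rfl
      · obtain ⟨p1, p2, p12⟩ := Finset.mem_offDiag.mp hp
        obtain ⟨g, hg, e1, e2, e3, e4⟩ := hG.ex u v p.1 p.2 u v p.2 p.1 (d4R p1 p2 p12) (d4R p2 p1 p12.symm)
        have h2 := sq_one hG hg (d4R p1 p2 p12) (by rw [e1, e1]) (by rw [e2, e2]) (by rw [e3, e4]) (by rw [e4, e3])
        refine ⟨⟨g, p.1⟩, Finset.mem_sigma.mpr ⟨memI.mpr ⟨hg, e1, e2, h2, fun e => p12 ?_⟩,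
          Finset.mem_filter.mpr ⟨p1, by rw [e3]; exact p12.symm⟩⟩, Prod.ext rfl e3⟩
        have e' : g = 1 := e
        rw [e'] at e3
        exact e3
    rw [Finset.card_sigma, Finset.sum_congr rfl (g := fun _ => R.card - 1) (fun g hg => by
      have := Finset.card_filter_add_card_filter_not (s := R) (p := fun w => g w = w)
      rw [hone g hg] at this
      simp only [ne_eq]
      omega), Finset.sum_const, smul_eq_mul, Finset.offDiag_card] at h1
    obtain ⟨q, hq'⟩ : ∃ q, R.card = q + 1 := ⟨R.card - 1, by omega⟩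
    rw [hq'] at h1 ⊢
    simp only [Nat.add_sub_cancel] at h1
    rw [show (q + 1) * (q + 1) - (q + 1) = (q + 1) * q by rw [Nat.mul_succ, Nat.add_sub_cancel]] at h1
    exact Nat.eq_of_mul_eq_mul_right (by omega) h1
  have huniq : ∀ g ∈ I, ∀ g' ∈ I, g i = i → g' i = i → g = g' := by
    have hsurj : ∀ w ∈ R, ∃ g ∈ I, g w = w := by
      intro w hw
      obtain ⟨t, ht, htw⟩ := Finset.exists_mem_ne (show 1 < R.card by omega) w
      obtain ⟨h, hh, e1, e2, e3, -⟩ := hG.ex u v i x u v w t ⟨huv, hiu.symm, hux, hiv.symm, hvx, hix⟩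
        (d4R hw ht htw.symm)
      refine ⟨h * a * h⁻¹, memI.mpr ⟨mul_mem (mul_mem hh ha) (inv_mem hh), ?_, ?_, ?_, ?_⟩, ?_⟩
      · rw [conj_at h a e1, au, e1]
      · rw [conj_at h a e2, av, e2]
      · exact conj_sq h a ha2
      · exact fun h1 => hane (conj_eq_one_iff.mp h1)
      · rw [conj_at h a e3, ai, e3]
    let F : Equiv.Perm α → α := fun g => if h : ∃ w ∈ R, g w = w then h.choose else x
    have hF : ∀ g ∈ I, ∀ w ∈ R, g w = w → F g = w := by
      intro g hg w hw hgw
      have h : ∃ w ∈ R, g w = w := ⟨w, hw, hgw⟩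
      simp only [F, dif_pos h]
      exact Finset.card_le_one.mp (hone g hg).le _ (Finset.mem_filter.mpr h.choose_spec) w
        (Finset.mem_filter.mpr ⟨hw, hgw⟩)
    have himg : I.image F = R := by
      refine Finset.Subset.antisymm (fun w hw => ?_) (fun w hw => ?_)
      · obtain ⟨g, hg, rfl⟩ := Finset.mem_image.mp hw
        obtain ⟨w, hw⟩ := Finset.card_eq_one.mp (hone g hg)
        have := Finset.mem_filter.mp (hw.symm ▸ Finset.mem_singleton_self w)
        rw [hF g hg w this.1 this.2]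
        exact this.1
      · obtain ⟨g, hg, hgw⟩ := hsurj w hw
        exact Finset.mem_image.mpr ⟨g, hg, hF g hg w hw hgw⟩
    have hinj : Set.InjOn F I := Finset.injOn_of_card_image_eq (by rw [himg, hIcard])
    intro g hg g' hg' e e'
    exact hinj hg hg' ((hF g hg i (memR.mpr ⟨hiu, hiv⟩) e).trans (hF g' hg' i (memR.mpr ⟨hiu, hiv⟩) e').symm)
  -- the pointwise stabiliser of the three points
  let K : Subgroup (Equiv.Perm α) :=
    { carrier := {g | g ∈ G ∧ g u = u ∧ g v = v ∧ g i = i}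
      mul_mem' := fun {g h} hg hh => ⟨mul_mem hg.1 hh.1, by simp [hh.2.1, hg.2.1], by simp [hh.2.2.1, hg.2.2.1],
        by simp [hh.2.2.2, hg.2.2.2]⟩
      one_mem' := ⟨one_mem G, rfl, rfl, rfl⟩
      inv_mem' := fun {g} hg => ⟨inv_mem hg.1, g.symm_apply_eq.mpr hg.2.1.symm, g.symm_apply_eq.mpr hg.2.2.1.symm,
        g.symm_apply_eq.mpr hg.2.2.2.symm⟩ }
  have haK : a ∈ K := ⟨ha, au, av, ai⟩
  have hxi : D4 u v i x := ⟨huv, hiu.symm, hux, hiv.symm, hvx, hix⟩
  have hcardK : Nat.card K = Fintype.card α - 3 := by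
    have e : Nat.card K = (Finset.univ \ {u, v, i} : Finset α).card := by
      rw [Nat.card_eq_fintype_card, ← Finset.card_univ]
      refine Finset.card_bij (fun g _ => (g : Equiv.Perm α) x) (fun g _ => ?_) (fun g _ h _ e => ?_) (fun z hz => ?_)
      · obtain ⟨-, g1, g2, g3⟩ := g.2
        simp only [Finset.mem_sdiff, Finset.mem_univ, true_and, Finset.mem_insert, Finset.mem_singleton, not_or]
        exact ⟨fun e => hux ((g : Equiv.Perm α).injective (g1.trans e.symm)),
          fun e => hvx ((g : Equiv.Perm α).injective (g2.trans e.symm)),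
          fun e => hix ((g : Equiv.Perm α).injective (g3.trans e.symm))⟩
      · obtain ⟨g0, g1, g2, g3⟩ := g.2
        obtain ⟨h0, h1, h2, h3⟩ := h.2
        exact Subtype.ext (hG.uniq _ g0 _ h0 u v i x hxi (g1.trans h1.symm) (g2.trans h2.symm) (g3.trans h3.symm) e)
      · simp only [Finset.mem_sdiff, Finset.mem_univ, true_and, Finset.mem_insert, Finset.mem_singleton, not_or] at hz
        obtain ⟨g, hg, e1, e2, e3, e4⟩ := hG.ex u v i x u v i z hxi
          ⟨huv, hiu.symm, Ne.symm hz.1, hiv.symm, Ne.symm hz.2.1, Ne.symm hz.2.2⟩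
        exact ⟨⟨g, hg, e1, e2, e3⟩, Finset.mem_univ _, e4⟩
    rw [e, Finset.card_sdiff_of_subset (Finset.subset_univ _), Finset.card_univ,
      Finset.card_eq_three.mpr ⟨u, v, i, huv, hiu.symm, hiv.symm, rfl⟩]
  have hcentral : ∀ g ∈ G, (∀ t ∈ ({u, v, i} : Finset α), g t ∈ ({u, v, i} : Finset α)) → g * a = a * g := by
    intro g hg hT
    have hinvT : ∀ t ∈ ({u, v, i} : Finset α), g⁻¹ t ∈ ({u, v, i} : Finset α) := by
      intro t ht
      have himg : ({u, v, i} : Finset α).image g = {u, v, i} :=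
        Finset.eq_of_subset_of_card_le (fun w hw => by
          obtain ⟨t', ht', rfl⟩ := Finset.mem_image.mp hw; exact hT t' ht')
          (by rw [Finset.card_image_of_injective _ g.injective])
      obtain ⟨t', ht', rfl⟩ := Finset.mem_image.mp (himg.symm ▸ ht)
      simpa using ht'
    have hfix : ∀ t ∈ ({u, v, i} : Finset α), (g * a * g⁻¹) t = t := by
      intro t ht
      have hat : a (g⁻¹ t) = g⁻¹ t := mem_fixed.mp (hfixa ▸ hinvT t ht)
      simp only [Equiv.Perm.mul_apply, hat]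
      exact g.apply_symm_apply t
    have hm : g * a * g⁻¹ ∈ I := memI.mpr ⟨mul_mem (mul_mem hg ha) (inv_mem hg), hfix u (by simp), hfix v (by simp),
      conj_sq g a ha2, fun h1 => hane (conj_eq_one_iff.mp h1)⟩
    exact mul_inv_eq_iff_eq_mul.mp (huniq _ hm a (memI.mpr ⟨ha, au, av, ha2, hane⟩) (hfix i (by simp)) ai)
  have hKT : ∀ g ∈ K, ∀ t ∈ ({u, v, i} : Finset α), g t = t := by
    rintro g ⟨-, g1, g2, g3⟩ t ht
    simp only [Finset.mem_insert, Finset.mem_singleton] at ht
    rcases ht with rfl | rfl | rfl <;> assumption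
  have hnotT : ∀ {g}, g ∈ K → g x ∉ ({u, v, i} : Finset α) := fun {g} hg hgx => by
    have := hKT g hg _ hgx
    have hx' : x ∈ ({u, v, i} : Finset α) := g.injective this ▸ hgx
    simp [hux.symm, hvx.symm, hix.symm] at hx'
  -- a swap of two of the three points
  obtain ⟨s, hs, su, sv, si, sx⟩ := hG.ex u v i x v u i x hxi ⟨huv.symm, hiv.symm, hvx, hiu.symm, hux, hix⟩
  obtain ⟨s', hs', su', sv', si', sx'⟩ := hG.ex u v i x u i v x hxi ⟨hiu.symm, huv, hux, hiv, hix, hvx⟩
  have hs2 := sq_one hG hs hxi (by rw [su, sv]) (by rw [sv, su]) (by rw [si, si]) (by rw [sx, sx])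
  have hs2' := sq_one hG hs' hxi (by rw [su', su']) (by rw [sv', si']) (by rw [si', sv']) (by rw [sx', sx'])
  have hsT : ∀ t ∈ ({u, v, i} : Finset α), s t ∈ ({u, v, i} : Finset α) := by
    intro t ht
    simp only [Finset.mem_insert, Finset.mem_singleton] at ht ⊢
    rcases ht with rfl | rfl | rfl <;> simp [su, sv, si]
  have hsT' : ∀ t ∈ ({u, v, i} : Finset α), s' t ∈ ({u, v, i} : Finset α) := by
    intro t ht
    simp only [Finset.mem_insert, Finset.mem_singleton] at ht ⊢
    rcases ht with rfl | rfl | rfl <;> simp [su', sv', si']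
  have swapfix : ∀ g ∈ G, g * g = 1 → g ≠ 1 → (∀ t ∈ ({u, v, i} : Finset α), g t ∈ ({u, v, i} : Finset α)) →
      g x = x → (∃ t ∈ ({u, v, i} : Finset α), g t = t) →
      ∀ k ∈ K, g * k = k * g → k = 1 ∨ k = a := by
    rintro g hg g2 g1 gT gx ⟨t, ht, gt⟩ k hk hgk
    have hgy : g y = y := by
      rw [← ax, ← Equiv.Perm.mul_apply, hcentral g hg gT, Equiv.Perm.mul_apply, gx]
    have hty : t ≠ x ∧ t ≠ y := by
      simp only [Finset.mem_insert, Finset.mem_singleton] at ht
      rcases ht with rfl | rfl | rfl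
      · exact ⟨hux, huy⟩
      · exact ⟨hvx, hvy⟩
      · exact ⟨hix, hiy⟩
    have hf : fixed g = {t, x, y} := (Finset.eq_of_subset_of_card_le
      (by simp [Finset.insert_subset_iff, mem_fixed, gt, gx, hgy])
      (by rw [hfix3 hg g2 g1 hxy gx hgy, Finset.card_eq_three.mpr ⟨t, x, y, hty.1, hty.2, hxy, rfl⟩])).symm
    have hkx : g (k x) = k x := by
      rw [← Equiv.Perm.mul_apply, hgk, Equiv.Perm.mul_apply, gx]
    have := mem_fixed.mpr hkx
    rw [hf, Finset.mem_insert, Finset.mem_insert, Finset.mem_singleton] at this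
    obtain ⟨k0, k1, k2, k3⟩ := hk
    rcases this with e | e | e
    · exact absurd (e ▸ ht) (hnotT ⟨k0, k1, k2, k3⟩)
    · exact Or.inl (hG.uniq k k0 1 (one_mem G) u v i x hxi k1 k2 k3 e)
    · exact Or.inr (hG.uniq k k0 a ha u v i x hxi (k1.trans au.symm) (k2.trans av.symm) (k3.trans ai.symm)
        (e.trans ax.symm))
  set r := s * s' with hr
  have hrG : r ∈ G := mul_mem hs hs'
  have hru : r u = v := by simp [hr, su', su]
  have hrv : r v = i := by simp [hr, sv', si]
  have hri : r i = u := by simp [hr, si', sv]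
  have hrx : r x = x := by simp [hr, sx', sx]
  have hr3 : r * r * r = 1 :=
    hG.uniq _ (mul_mem (mul_mem hrG hrG) hrG) 1 (one_mem G) u v i x hxi (by simp [hru, hrv, hri])
      (by simp [hru, hrv, hri]) (by simp [hru, hrv, hri]) (by simp [hrx])
  have hrfix : ∀ k ∈ K, r * k = k * r → k = 1 ∨ k = a := by
    intro k hk hrk
    have hrT : ∀ t ∈ ({u, v, i} : Finset α), r t ∈ ({u, v, i} : Finset α) := fun t ht => by
      rw [hr, Equiv.Perm.mul_apply]; exact hsT _ (hsT' t ht)
    have hca := hcentral r hrG hrT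
    have hry : r y = y := by rw [← ax, ← Equiv.Perm.mul_apply, hca, Equiv.Perm.mul_apply, hrx]
    set z := k x with hz
    have hrz : r z = z := by rw [hz, ← Equiv.Perm.mul_apply, hrk, Equiv.Perm.mul_apply, hrx]
    have hraz : r (a z) = a z := by rw [← Equiv.Perm.mul_apply, hca, Equiv.Perm.mul_apply, hrz]
    obtain ⟨k0, k1, k2, k3⟩ := hk
    have haz : a z ≠ z := fun e => hnotT ⟨k0, k1, k2, k3⟩ (hfixa ▸ mem_fixed.mpr e)
    by_cases h1 : z = x
    · exact Or.inl (hG.uniq k k0 1 (one_mem G) u v i x hxi k1 k2 k3 h1)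
    by_cases h2 : z = y
    · exact Or.inr (hG.uniq k k0 a ha u v i x hxi (k1.trans au.symm) (k2.trans av.symm) (k3.trans ai.symm)
        (h2.trans ax.symm))
    exfalso
    have h3 : a z ≠ x := fun e => h2 (a.injective (e.trans ay.symm))
    have h4 : a z ≠ y := fun e => h1 (a.injective (e.trans ax.symm))
    have hle := fixed_le hG hrG (fun e => huv (by rw [← hru, e]; rfl))
    have hsub : ({x, y, z, a z} : Finset α) ⊆ fixed r := by
      simp [Finset.insert_subset_iff, mem_fixed, hrx, hry, hrz, hraz]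
    have h5 : ({x, y, z, a z} : Finset α).card = 4 := by
      simp [hxy, Ne.symm h1, Ne.symm h3, Ne.symm h2, Ne.symm h4, haz.symm]
    have := Finset.card_le_card hsub
    omega
  -- automorphisms of the quotient by the central involution
  have hnormK : ∀ g ∈ G, (∀ t ∈ ({u, v, i} : Finset α), g t ∈ ({u, v, i} : Finset α)) → g * g = 1 →
      ∀ k ∈ K, g * k * g ∈ K := by
    intro g hg gT g2 k hk
    have hfix : ∀ t ∈ ({u, v, i} : Finset α), (g * k * g) t = t := fun t ht => by
      simp only [Equiv.Perm.mul_apply, hKT k hk _ (gT t ht)]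
      exact Equiv.congr_fun g2 t
    exact ⟨mul_mem (mul_mem hg hk.1) hg, hfix u (by simp), hfix v (by simp), hfix i (by simp)⟩
  have mkAut : ∀ g : Equiv.Perm α, g ∈ G → (∀ t ∈ ({u, v, i} : Finset α), g t ∈ ({u, v, i} : Finset α)) → g * g = 1 →
      ∃ θ : K ≃* K, ∀ k : K, ((θ k : K) : Equiv.Perm α) = g * k * g := by
    intro g hg gT g2
    have hc : ∀ z, g * (g * z * g) * g = z := fun z => by
      rw [show g * (g * z * g) * g = (g * g) * z * (g * g) by simp only [mul_assoc], g2, one_mul, mul_one]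
    refine ⟨{ toFun := fun k => ⟨g * k * g, hnormK g hg gT g2 k k.2⟩
              invFun := fun k => ⟨g * k * g, hnormK g hg gT g2 k k.2⟩
              left_inv := fun k => Subtype.ext (hc k)
              right_inv := fun k => Subtype.ext (hc k)
              map_mul' := fun k l => Subtype.ext ?_ }, fun k => rfl⟩
    show g * (k * l) * g = g * k * g * (g * l * g)
    simp only [mul_assoc]
    rw [← mul_assoc g g, g2, one_mul]
  obtain ⟨φ, hφ⟩ := mkAut s hs hsT hs2
  obtain ⟨ψ, hψ⟩ := mkAut s' hs' hsT' hs2'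
  let aK : K := ⟨a, haK⟩
  set A : Subgroup K := Subgroup.zpowers aK with hA
  have hacent : ∀ k : K, aK * k = k * aK := fun k => Subtype.ext
    (hcentral k k.2.1 (fun t ht => by rw [hKT k k.2 t ht]; exact ht)).symm
  haveI hAn : A.Normal := ⟨fun z hz k => by
    obtain ⟨m, rfl⟩ := Subgroup.mem_zpowers_iff.mp hz
    rw [((Commute.zpow_left (hacent k) m).symm).eq, mul_inv_cancel_right]
    exact hz⟩
  have hAmem : ∀ z : K, z ∈ A ↔ z = 1 ∨ z = aK := by
    have haK2 : aK * aK = 1 := Subtype.ext ha2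
    intro z
    constructor
    · intro hz
      obtain ⟨m, rfl⟩ := Subgroup.mem_zpowers_iff.mp hz
      rcases Int.even_or_odd m with ⟨j, rfl⟩ | ⟨j, rfl⟩
      · left; rw [← two_mul, zpow_mul, zpow_two, haK2, one_zpow]
      · right; rw [zpow_add, zpow_mul, zpow_two, haK2, one_zpow, one_mul, zpow_one]
    · rintro (rfl | rfl)
      · exact one_mem A
      · exact Subgroup.mem_zpowers _
  have hφa : φ aK = aK := Subtype.ext (by
    rw [hφ]; show s * a * s = a
    rw [hcentral s hs hsT, mul_assoc, hs2, mul_one])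
  have hψa : ψ aK = aK := Subtype.ext (by
    rw [hψ]; show s' * a * s' = a
    rw [hcentral s' hs' hsT', mul_assoc, hs2', mul_one])
  have hmapA : ∀ θ : K ≃* K, θ aK = aK → A.map (θ : K →* K) = A := fun θ e => by
    rw [hA, MonoidHom.map_zpowers]; exact congrArg Subgroup.zpowers e
  let φq : K ⧸ A ≃* K ⧸ A := QuotientGroup.congr A A φ (hmapA φ hφa)
  let ψq : K ⧸ A ≃* K ⧸ A := QuotientGroup.congr A A ψ (hmapA ψ hψa)
  have hqφ : ∀ k : K, φq (k : K ⧸ A) = ((φ k : K) : K ⧸ A) := fun k => rfl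
  have hqψ : ∀ k : K, ψq (k : K ⧸ A) = ((ψ k : K) : K ⧸ A) := fun k => rfl
  have hinvol : ∀ (θ : K ≃* K) (g : Equiv.Perm α), g * g = 1 → (∀ k : K, ((θ k : K) : Equiv.Perm α) = g * k * g) →
      ∀ k, θ (θ k) = k := fun θ g g2 hθ k => Subtype.ext (by
    rw [hθ, hθ, show g * (g * (k : Equiv.Perm α) * g) * g = (g * g) * k * (g * g) by simp only [mul_assoc], g2,
      one_mul, mul_one])
  have hfixle : ∀ (θ : K ≃* K) (θq : K ⧸ A ≃* K ⧸ A), (∀ k : K, θq (k : K ⧸ A) = ((θ k : K) : K ⧸ A)) →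
      θ aK = aK → (∀ k : K, θ k = k → k = 1 ∨ k = aK) → {q | θq q = q}.ncard ≤ 2 := by
    intro θ θq hq hθa hfx
    by_cases hex : ∃ k₀ : K, θ k₀ = k₀ * aK
    · obtain ⟨k₀, hk₀⟩ := hex
      refine (Set.ncard_le_ncard (t := {1, (k₀ : K ⧸ A)}) (fun q hq' => ?_) (Set.toFinite _)).trans
        ((Set.ncard_insert_le _ _).trans (by rw [Set.ncard_singleton]))
      obtain ⟨k, rfl⟩ := QuotientGroup.mk_surjective q
      have h1 : k⁻¹ * θ k ∈ A := QuotientGroup.eq.mp ((hq k).symm.trans hq').symm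
      rcases (hAmem _).mp h1 with e | e
      · left
        exact (QuotientGroup.eq_one_iff k).mpr ((hAmem k).mpr (hfx k (inv_mul_eq_one.mp e).symm))
      · right
        refine QuotientGroup.eq.mpr ((hAmem _).mpr (hfx _ ?_))
        rw [map_mul, map_inv, hk₀, inv_mul_eq_iff_eq_mul.mp e, mul_inv_rev]
        calc aK⁻¹ * k⁻¹ * (k₀ * aK) = aK⁻¹ * ((k⁻¹ * k₀) * aK) := by group
          _ = aK⁻¹ * (aK * (k⁻¹ * k₀)) := by rw [hacent (k⁻¹ * k₀)]
          _ = k⁻¹ * k₀ := inv_mul_cancel_left _ _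
    · push Not at hex
      refine (Set.ncard_le_ncard (t := {1}) (fun q hq' => ?_) (Set.toFinite _)).trans (by simp)
      obtain ⟨k, rfl⟩ := QuotientGroup.mk_surjective q
      have h1 : k⁻¹ * θ k ∈ A := QuotientGroup.eq.mp ((hq k).symm.trans hq').symm
      rcases (hAmem _).mp h1 with e | e
      · exact (QuotientGroup.eq_one_iff k).mpr ((hAmem k).mpr (hfx k (inv_mul_eq_one.mp e).symm))
      · exact absurd (inv_mul_eq_iff_eq_mul.mp e) (hex k)
  have hcommK : ∀ (θ : K ≃* K) (g : Equiv.Perm α), g * g = 1 → (∀ k : K, ((θ k : K) : Equiv.Perm α) = g * k * g) →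
      ∀ k : K, θ k = k → g * (k : Equiv.Perm α) = k * g := fun θ g g2 hθ k e => by
    have h := congrArg Subtype.val e
    rw [hθ] at h
    calc g * (k : Equiv.Perm α) = g * k * (g * g) := by rw [g2, mul_one]
      _ = (g * k * g) * g := by simp only [mul_assoc]
      _ = k * g := by rw [h]
  have hs1 : s ≠ 1 := fun e => huv (by rw [← su, e]; rfl)
  have hs1' : s' ≠ 1 := fun e => hiv (by rw [← sv', e]; rfl)
  have hfxφ : ∀ k : K, φ k = k → k = 1 ∨ k = aK := fun k e =>
    (swapfix s hs hs2 hs1 hsT sx ⟨i, by simp, si⟩ k k.2 (hcommK φ s hs2 hφ k e)).imp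
      (fun h => Subtype.ext h) (fun h => Subtype.ext h)
  have hfxψ : ∀ k : K, ψ k = k → k = 1 ∨ k = aK := fun k e =>
    (swapfix s' hs' hs2' hs1' hsT' sx' ⟨u, by simp, su'⟩ k k.2 (hcommK ψ s' hs2' hψ k e)).imp
      (fun h => Subtype.ext h) (fun h => Subtype.ext h)
  have hρ3 : ∀ k : K, φ (ψ (φ (ψ (φ (ψ k))))) = k := fun k => Subtype.ext (by
    rw [hφ, hψ, hφ, hψ, hφ, hψ]
    have e : r⁻¹ = s' * s := by
      rw [hr, mul_inv_rev, inv_eq_of_mul_eq_one_right hs2, inv_eq_of_mul_eq_one_right hs2']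
    calc s * (s' * (s * (s' * (s * (s' * (k : Equiv.Perm α) * s') * s) * s') * s) * s') * s
        = (r * r * r) * k * ((s' * s) * (s' * s) * (s' * s)) := by simp only [hr, mul_assoc]
      _ = (r * r * r) * k * (r * r * r)⁻¹ := by rw [← e]; group
      _ = k := by rw [hr3, one_mul, inv_one, mul_one])
  have hρfix : ∀ k : K, φ (ψ k) = k → k = 1 ∨ k = aK := fun k e => by
    have h := congrArg Subtype.val e
    rw [hφ, hψ] at h
    refine (hrfix k k.2 ?_).imp (fun h => Subtype.ext h) (fun h => Subtype.ext h)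
    calc r * (k : Equiv.Perm α) = s * (s' * k * s') * s * r := by
          simp only [hr, mul_assoc]
          rw [← mul_assoc s s, hs2, one_mul, hs2', mul_one]
      _ = k * r := by rw [h]
  have hquot := card_of_autos φq ψq
    (fun q => by
      induction q using QuotientGroup.induction_on with
      | _ k => rw [hqφ, hqφ, hinvol φ s hs2 hφ])
    (fun q => by
      induction q using QuotientGroup.induction_on with
      | _ k => rw [hqψ, hqψ, hinvol ψ s' hs2' hψ])
    (fun q => by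
      induction q using QuotientGroup.induction_on with
      | _ k => rw [hqψ, hqφ, hqψ, hqφ, hqψ, hqφ, hρ3])
    (fun q => by
      induction q using QuotientGroup.induction_on with
      | _ k =>
        intro hq'
        rw [hqψ, hqφ] at hq'
        have h1 : k⁻¹ * φ (ψ k) ∈ A := QuotientGroup.eq.mp hq'.symm
        refine (QuotientGroup.eq_one_iff k).mpr ((hAmem k).mpr (hρfix k ?_))
        rcases (hAmem _).mp h1 with e | e
        · exact (inv_mul_eq_one.mp e).symm
        · exfalso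
          have e' := inv_mul_eq_iff_eq_mul.mp e
          have h := hρ3 k
          have step : ∀ z : K, φ (ψ (z * aK)) = φ (ψ z) * aK := fun z => by rw [map_mul, hψa, map_mul, hφa]
          rw [e', step, e', step, step, e'] at h
          have h' : k * aK = k := by
            calc k * aK = k * aK * (aK * aK) := by rw [show aK * aK = 1 from Subtype.ext ha2, mul_one]
              _ = k * aK * aK * aK := by simp only [mul_assoc]
              _ = k := h
          rw [mul_eq_left] at h'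
          exact hane (congrArg Subtype.val h'))
    (hfixle φ φq hqφ hφa hfxφ) (hfixle ψ ψq hqψ hψa hfxψ)
  have hcardA : Nat.card A = 2 := by
    rw [hA, Nat.card_zpowers]
    refine orderOf_eq_prime (by rw [pow_two]; exact Subtype.ext ha2) ?_
    exact fun e => hane (congrArg Subtype.val e)
  have hprod := Subgroup.card_eq_card_quotient_mul_card_subgroup A
  rw [hcardA, hcardK] at hprod
  rcases hquot with e | e <;> rw [e] at hprod <;> omega

/-- Jordan's theorem. -/
theorem degree_four : Fintype.card α ≤ 6 ∨ Fintype.card α = 11 := by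
  classical
  by_contra hn
  push Not at hn
  obtain ⟨s, -, hs⟩ := Finset.exists_subset_card_eq (show 4 ≤ (Finset.univ : Finset α).card by rw [Finset.card_univ]; omega)
  obtain ⟨u, v, x, y, h1, h2, h3, h4, h5, h6, -⟩ := Finset.card_eq_four.mp hs
  have hd : D4 u v x y := ⟨h1, h2, h3, h4, h5, h6⟩
  obtain ⟨a, ha, au, av, ax, ay⟩ := hG.ex u v x y u v y x hd ⟨h1, h3, h2, h5, h4, h6.symm⟩
  have hle := fixed_le hG ha (fun e => h6 (by rw [← ax, e]; rfl))
  have hge : 2 ≤ (fixed a).card := by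
    rw [← Finset.card_pair h1]
    exact Finset.card_le_card (by simp [Finset.insert_subset_iff, mem_fixed, au, av])
  rcases (show (fixed a).card = 2 ∨ (fixed a).card = 3 by omega) with e | e
  · exact case_two hG (by omega) hd ha au av ax ay e
  · exact hn.2 (case_three hG (by omega) hd ha au av ax ay e)

end CfsgSharpTrans
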