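/-
Degrees of sharply multiply transitive groups.
-/
import Cfsg.Agent.Lib.SharpTrans.Four

set_option autoImplicit false

namespace CfsgSharpTrans

variable {α : Type*} [Fintype α] [DecidableEq α]

/-- Sharp transitivity on tuples of `k` distinct points. -/
structure SharpK (G : Subgroup (Equiv.Perm α)) (k : ℕ) : Prop where
  ex : ∀ x y : Fin k ↪ α, ∃ g ∈ G, ∀ i, g (x i) = y i
  uniq : ∀ g ∈ G, ∀ x : Fin k ↪ α, (∀ i, g (x i) = x i) → g = 1

theorem sharpK_of (G : Subgroup (Equiv.Perm α)) (k : ℕ) [MulAction.IsMultiplyPretransitive G α k]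
    (h : ∀ x : Fin k ↪ α, MulAction.stabilizer G x = ⊥) : SharpK G k := by
  constructor
  · intro x y
    obtain ⟨g, hg⟩ := MulAction.exists_smul_eq G x y
    exact ⟨g, g.2, fun i => congrArg (fun e : Fin k ↪ α => e i) hg⟩
  · intro g hg x hx
    have : (⟨g, hg⟩ : G) ∈ MulAction.stabilizer G x := Function.Embedding.ext hx
    rw [h x, Subgroup.mem_bot] at this
    exact congrArg Subtype.val this

theorem SharpK.sharp4 {G : Subgroup (Equiv.Perm α)} (h : SharpK G 4) : Sharp4 G := by
  have mk : ∀ {a b c d : α}, D4 a b c d → ∃ e : Fin 4 ↪ α, e 0 = a ∧ e 1 = b ∧ e 2 = c ∧ e 3 = d := by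
    rintro a b c d ⟨h1, h2, h3, h4, h5, h6⟩
    refine ⟨⟨![a, b, c, d], ?_⟩, rfl, rfl, rfl, rfl⟩
    intro i j e
    fin_cases i <;> fin_cases j <;>
      first
      | rfl
      | (simp at e; simp_all)
  constructor
  · intro a b c d a' b' c' d' hd hd'
    obtain ⟨x, x0, x1, x2, x3⟩ := mk hd
    obtain ⟨y, y0, y1, y2, y3⟩ := mk hd'
    obtain ⟨g, hg, e⟩ := h.ex x y
    exact ⟨g, hg, by rw [← x0, e, y0], by rw [← x1, e, y1], by rw [← x2, e, y2], by rw [← x3, e, y3]⟩
  · intro g hg k hk a b c d hd e0 e1 e2 e3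
    obtain ⟨x, x0, x1, x2, x3⟩ := mk hd
    have : k⁻¹ * g = 1 := h.uniq _ (mul_mem (inv_mem hk) hg) x (fun i => by
      fin_cases i
      · show k.symm (g (x 0)) = x 0
        rw [x0, e0]; exact k.symm_apply_apply a
      · show k.symm (g (x 1)) = x 1
        rw [x1, e1]; exact k.symm_apply_apply b
      · show k.symm (g (x 2)) = x 2
        rw [x2, e2]; exact k.symm_apply_apply c
      · show k.symm (g (x 3)) = x 3
        rw [x3, e3]; exact k.symm_apply_apply d)
    exact (inv_mul_eq_one.mp this).symm

/-- Passing to the stabiliser of a point. -/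
theorem SharpK.down {G : Subgroup (Equiv.Perm α)} {k : ℕ} (h : SharpK G (k + 1)) (p : α) :
    ∃ H : Subgroup (Equiv.Perm {z : α // z ≠ p}), SharpK H k := by
  refine ⟨{ carrier := {σ | ∃ g ∈ G, g p = p ∧ ∀ z : {z : α // z ≠ p}, (σ z : α) = g z}
            mul_mem' := ?_
            one_mem' := ⟨1, one_mem G, rfl, fun z => rfl⟩
            inv_mem' := ?_ }, ?_, ?_⟩
  · rintro σ τ ⟨g, hg, gp, hgz⟩ ⟨g', hg', gp', hgz'⟩
    exact ⟨g * g', mul_mem hg hg', by simp [gp, gp'], fun z => by simp [hgz, hgz']⟩
  · rintro σ ⟨g, hg, gp, hgz⟩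
    refine ⟨g⁻¹, inv_mem hg, g.symm_apply_eq.mpr gp.symm, fun z => ?_⟩
    show ((σ⁻¹ z : {z : α // z ≠ p}) : α) = g.symm z
    exact (g.symm_apply_eq.mpr (((congrArg Subtype.val (σ.apply_symm_apply z)).symm).trans (hgz _))).symm
  · intro x y
    have hx : ∀ e : Fin k ↪ {z : α // z ≠ p}, Function.Injective (Fin.cons p fun i => (e i : α) : Fin (k + 1) → α) := by
      intro e
      rw [Fin.cons_injective_iff]
      exact ⟨fun ⟨i, hi⟩ => (e i).2 hi, fun i j hij => e.injective (Subtype.ext hij)⟩
    obtain ⟨g, hg, e⟩ := h.ex ⟨_, hx x⟩ ⟨_, hx y⟩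
    have gp : g p = p := e 0
    refine ⟨g.subtypePerm (fun z => not_congr ⟨fun hz => g.injective (hz.trans gp.symm), fun hz => by rw [hz, gp]⟩),
      ⟨g, hg, gp, fun z => rfl⟩, fun i => Subtype.ext (e i.succ)⟩
  · rintro σ ⟨g, hg, gp, hgz⟩ x hx
    have hinj : Function.Injective (Fin.cons p fun i => (x i : α) : Fin (k + 1) → α) := by
      rw [Fin.cons_injective_iff]
      exact ⟨fun ⟨i, hi⟩ => (x i).2 hi, fun i j hij => x.injective (Subtype.ext hij)⟩
    have : g = 1 := h.uniq g hg ⟨_, hinj⟩ (fun i => by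
      refine Fin.cases ?_ (fun j => ?_) i
      · exact gp
      · show g (x j) = x j
        rw [← hgz, hx])
    refine Equiv.ext fun z => Subtype.ext ?_
    rw [hgz, this]
    rfl

theorem SharpK.card_group {G : Subgroup (Equiv.Perm α)} {k : ℕ} (h : SharpK G k) (hk : k ≤ Fintype.card α) :
    Nat.card G = (Fintype.card α).descFactorial k := by
  obtain ⟨x₀⟩ : Nonempty (Fin k ↪ α) := Function.Embedding.nonempty_of_card_le (by simpa using hk)
  have e : Nat.card G = Nat.card (Fin k ↪ α) := by
    refine Nat.card_eq_of_bijective (fun g : G => x₀.trans (g : Equiv.Perm α).toEmbedding) ⟨fun g g' e => ?_, fun y => ?_⟩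
    · have hi : ∀ i, (g : Equiv.Perm α) (x₀ i) = (g' : Equiv.Perm α) (x₀ i) := fun i =>
        congrArg (fun f : Fin k ↪ α => f i) e
      have := h.uniq _ (mul_mem (inv_mem g'.2) g.2) x₀ (fun i => by
        show (g' : Equiv.Perm α).symm ((g : Equiv.Perm α) (x₀ i)) = x₀ i
        rw [hi]; exact Equiv.symm_apply_apply _ _)
      exact Subtype.ext (inv_mul_eq_one.mp this).symm
    · obtain ⟨g, hg, e⟩ := h.ex x₀ y
      exact ⟨⟨g, hg⟩, Function.Embedding.ext e⟩
  rw [e, Nat.card_eq_fintype_card, Fintype.card_embedding_eq, Fintype.card_fin]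

theorem card_erase_point (p : α) : Fintype.card {z : α // z ≠ p} = Fintype.card α - 1 := by
  rw [Fintype.card_subtype_compl, Fintype.card_subtype_eq]

theorem degree4 {G : Subgroup (Equiv.Perm α)} (h : SharpK G 4) (h4 : 4 ≤ Fintype.card α) :
    Fintype.card α = 4 ∨ Fintype.card α = 5 ∨ Fintype.card α = 6 ∨ Fintype.card α = 11 := by
  rcases degree_four h.sharp4 with e | e <;> omega

theorem degree5 {G : Subgroup (Equiv.Perm α)} (h : SharpK G 5) (h5 : 5 ≤ Fintype.card α) :
    Fintype.card α = 5 ∨ Fintype.card α = 6 ∨ Fintype.card α = 7 ∨ Fintype.card α = 12 := by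
  obtain ⟨p⟩ : Nonempty α := Fintype.card_pos_iff.mp (by omega)
  obtain ⟨H, hH⟩ := h.down p
  have := degree4 hH (by rw [card_erase_point]; omega)
  rw [card_erase_point] at this
  omega

/-- There is no sharply six-transitive group of degree thirteen. -/
theorem no_thirteen {G : Subgroup (Equiv.Perm α)} (h : SharpK G 6) (hn : Fintype.card α = 13) : False := by
  haveI : Fact (Nat.Prime 13) := ⟨by norm_num⟩
  have hG : Nat.card G = 1235520 := by
    rw [h.card_group (by omega), hn]; decide
  obtain ⟨x, hx⟩ := exists_prime_orderOf_dvd_card' (G := G) 13 (by rw [hG]; norm_num)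
  have hx' : orderOf (x : Equiv.Perm α) = Fintype.card α := by rw [Subgroup.orderOf_coe, hx, hn]
  have hcyc := Equiv.Perm.isCycle_of_prime_order'' (by rw [hn]; norm_num) hx'
  have hsupp : ∀ z, (x : Equiv.Perm α) z ≠ z := by
    have : (x : Equiv.Perm α).support = Finset.univ := Finset.eq_univ_of_card _ (by rw [← hcyc.orderOf, hx'])
    intro z
    exact Equiv.Perm.mem_support.mp (this ▸ Finset.mem_univ z)
  obtain ⟨p⟩ : Nonempty α := Fintype.card_pos_iff.mp (by omega)
  have hfac : (Nat.card G).factorization 13 = 1 := by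
    rw [hG]
    have h1 := (Nat.Prime.pow_dvd_iff_le_factorization (p := 13) (k := 1) (by norm_num) (n := 1235520) (by norm_num)).mp (by norm_num)
    have h2 := mt (Nat.Prime.pow_dvd_iff_le_factorization (p := 13) (k := 2) (by norm_num) (n := 1235520) (by norm_num)).mpr (by norm_num)
    omega
  let P : Sylow 13 G := Sylow.ofCard (Subgroup.zpowers x) (by rw [Nat.card_zpowers, hx, hfac, pow_one])
  have hP : (P : Subgroup G) = Subgroup.zpowers x := rfl
  set Q : Subgroup G := Subgroup.zpowers x with hQ
  have hQ13 : Nat.card Q = 13 := by rw [hQ, Nat.card_zpowers, hx]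
  have hC : Nat.card (Subgroup.centralizer (Q : Set G)) = 13 := by
    refine le_antisymm ?_ ?_
    · calc Nat.card (Subgroup.centralizer (Q : Set G)) ≤ Nat.card α := by
            refine Nat.card_le_card_of_injective (fun c => ((c : G) : Equiv.Perm α) p) (fun c c' e => ?_)
            refine Subtype.ext (Subtype.ext (Equiv.ext fun q => ?_))
            obtain ⟨i, hi⟩ := hcyc.exists_zpow_eq (hsupp p) (hsupp q)
            have hcomm : ∀ d : Subgroup.centralizer (Q : Set G),
                ((d : G) : Equiv.Perm α) * (x : Equiv.Perm α) ^ i = (x : Equiv.Perm α) ^ i * ((d : G) : Equiv.Perm α) := by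
              intro d
              have := Subgroup.mem_centralizer_iff.mp d.2 (x ^ i) (Subgroup.zpow_mem_zpowers x i)
              have h' := congrArg Subtype.val this
              simp only [Subgroup.coe_mul, SubgroupClass.coe_zpow] at h'
              exact h'.symm
            rw [← hi, ← Equiv.Perm.mul_apply, ← Equiv.Perm.mul_apply, hcomm c, hcomm c', Equiv.Perm.mul_apply,
              Equiv.Perm.mul_apply]
            exact congrArg _ e
        _ = 13 := by rw [Nat.card_eq_fintype_card, hn]
    · have hle : Q ≤ Subgroup.centralizer (Q : Set G) := by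
        intro z hz
        rw [Subgroup.mem_centralizer_iff]
        intro w hw
        obtain ⟨i, rfl⟩ := Subgroup.mem_zpowers_iff.mp hz
        obtain ⟨j, rfl⟩ := Subgroup.mem_zpowers_iff.mp hw
        exact (zpow_mul_comm x j i)
      exact hQ13 ▸ Subgroup.card_le_of_le hle
  have hker : Nat.card Q.normalizerMonoidHom.ker = 13 := by
    rw [Subgroup.normalizerMonoidHom_ker,
      Nat.card_congr (Subgroup.subgroupOfEquivOfLe (fun z hz => ?_)).toEquiv, hC]
    rw [Subgroup.mem_normalizer_iff]
    intro w
    have hz' := Subgroup.mem_centralizer_iff.mp hz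
    constructor
    · intro hw
      rw [← hz' w hw, mul_inv_cancel_right]
      exact hw
    · intro hw
      have e := hz' _ hw
      simp only [← mul_assoc] at e
      rw [inv_mul_cancel_right] at e
      have : w = z * w * z⁻¹ := by
        calc w = z⁻¹ * (z * w) := by group
          _ = z⁻¹ * (z * z * w * z⁻¹) := by rw [e]
          _ = _ := by group
      rw [this]
      exact hw
  haveI : IsCyclic Q := isCyclic_of_prime_card hQ13
  have hrange : Nat.card Q.normalizerMonoidHom.range ∣ 12 := by
    have := Subgroup.card_subgroup_dvd_card Q.normalizerMonoidHom.range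
    rwa [IsCyclic.card_mulAut, hQ13, Nat.totient_prime (by norm_num)] at this
  have hN : Nat.card (Subgroup.normalizer (Q : Set G)) = 13 * Nat.card Q.normalizerMonoidHom.range := by
    rw [← Subgroup.card_mul_index Q.normalizerMonoidHom.ker, hker, Subgroup.index_ker]
  have hmod := card_sylow_modEq_one 13 G
  rw [Sylow.card_eq_index_normalizer P] at hmod
  change (Subgroup.normalizer (Q : Set G)).index ≡ 1 [MOD 13] at hmod
  have hidx := Subgroup.card_mul_index (Subgroup.normalizer (Q : Set G))
  rw [hN, hG] at hidx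
  unfold Nat.ModEq at hmod
  generalize Nat.card Q.normalizerMonoidHom.range = d at hrange hidx
  generalize (Subgroup.normalizer (Q : Set G)).index = m at hmod hidx
  have hd : d ≤ 12 := Nat.le_of_dvd (by norm_num) hrange
  interval_cases d <;> omega

theorem degreeK : ∀ (k : ℕ) {β : Type*} [Fintype β] [DecidableEq β] {G : Subgroup (Equiv.Perm β)}, SharpK G k → 6 ≤ k →
    k ≤ Fintype.card β → Fintype.card β = k ∨ Fintype.card β = k + 1 ∨ Fintype.card β = k + 2 := by
  intro k
  induction k with
  | zero => intros; omega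
  | succ k ih =>
    intro β _ _ G h h6 hn
    obtain ⟨p⟩ : Nonempty β := Fintype.card_pos_iff.mp (by omega)
    obtain ⟨H, hH⟩ := h.down p
    rcases Nat.lt_or_ge k 6 with hk | hk
    · obtain rfl : k = 5 := by omega
      have := degree5 hH (by rw [card_erase_point]; omega)
      rw [card_erase_point] at this
      rcases this with e | e | e | e
      · omega
      · omega
      · omega
      · exact (no_thirteen h (by omega)).elim
    · have := ih hH hk (by rw [card_erase_point]; omega)
      rw [card_erase_point] at this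
      omega

end CfsgSharpTrans
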